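import Mathlib
import Groth.Prelude.Def_Found
import Groth.Agent.CAlgMisc2.SopCount
import Groth.Agent.CAlgH3.DescPicAlg

/-!
# Reduced hyperplane sections of catenary normal local domains

In a catenary Noetherian local normal domain every nonzero radical ideal contains a nonzero `f` with
`R/fR` reduced: perturb inside a high power of the maximal ideal; the number of height one primes
through `f` strictly increases while it stays bounded by the length of `R/(f, x)`.
-/

set_option autoImplicit false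
universe u

open IsLocalRing

namespace Groth.Agent.CohDer1.RedSection

variable {R : Type u} [CommRing R] [IsDomain R] [IsNoetherianRing R] [IsIntegrallyClosed R]

open Groth.Agent.CAlgH3.DescPic

/-- height one primes containing `f` -/
def S1 (f : R) : Set (Ideal R) := {P | P.IsPrime ∧ P.height = 1 ∧ f ∈ P}

/-- `f` generates every height one prime through it, locally -/
def Simple (f : R) (P : Ideal R) : Prop := ∀ x ∈ P, ∃ s ∉ P, f ∣ s * x

omit [IsIntegrallyClosed R] in
theorem eq_of_le {P Q : Ideal R} [P.IsPrime] [Q.IsPrime] (hP : P.height = 1) (hQ : Q ≤ P) (h0 : Q ≠ ⊥) :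
    Q = P := by
  by_contra hne
  have h1 := Ideal.height_add_one_le_of_lt_of_isPrime (bot_lt_iff_ne_bot.2 h0)
  have h2 := Ideal.height_add_one_le_of_lt_of_isPrime (lt_of_le_of_ne hQ hne)
  rw [hP] at h2
  have h3 : (1 : ℕ∞) ≤ Q.height := le_trans le_add_self h1
  exact absurd (le_trans (by gcongr) h2 : (1 : ℕ∞) + 1 ≤ 1) (by decide)

omit [IsIntegrallyClosed R] in
theorem mem_minimalPrimes_of_height_one {P : Ideal R} [P.IsPrime] (hP : P.height = 1) {I : Ideal R}
    (hI : I ≤ P) (h0 : I ≠ ⊥) : P ∈ I.minimalPrimes := by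
  refine ⟨⟨‹_›, hI⟩, fun Q ⟨hQ, hIQ⟩ hle => ?_⟩
  have : Q.IsPrime := hQ
  exact (eq_of_le hP hle fun h => h0 (le_bot_iff.1 (h ▸ hIQ))).ge

omit [IsIntegrallyClosed R] in
theorem S1_finite {f : R} (hf : f ≠ 0) : (S1 f).Finite := by
  refine (Ideal.finite_minimalPrimes_of_isNoetherianRing R (Ideal.span {f})).subset ?_
  rintro P ⟨hP, h1, hfP⟩
  exact mem_minimalPrimes_of_height_one h1 ((Ideal.span_singleton_le_iff_mem _).2 hfP)
    (by rwa [Ne, Ideal.span_singleton_eq_bot])

theorem isReduced_of_simple {f : R} (hf : f ≠ 0) (h : ∀ P ∈ S1 f, Simple f P) :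
    IsReduced (R ⧸ Ideal.span {f}) := by
  refine ⟨fun y ⟨n, hn⟩ => ?_⟩
  obtain ⟨x, rfl⟩ := Ideal.Quotient.mk_surjective y
  rw [← map_pow, Ideal.Quotient.eq_zero_iff_mem] at hn
  rw [Ideal.Quotient.eq_zero_iff_mem, Ideal.mem_span_singleton]
  let K := FractionRing R
  have hf' : algebraMap R K f ≠ 0 := fun e => hf (IsFractionRing.injective R K (e.trans (map_zero _).symm))
  obtain ⟨a, ha⟩ := CAlgMisc2.mem_range_of_forall_height_one (algebraMap R K x / algebraMap R K f)
    (fun p hp hp1 => by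
      by_cases hfp : f ∈ p
      · obtain ⟨s, hs, c, hc⟩ := h p ⟨hp, hp1, hfp⟩ x
          (hp.mem_of_pow_mem n ((Ideal.span_singleton_le_iff_mem _).2 hfp hn))
        exact ⟨c, s, hs, by
          rw [div_mul_eq_mul_div, div_eq_iff hf', ← map_mul, ← map_mul, mul_comm x, hc, mul_comm f]⟩
      · exact ⟨x, f, hfp, div_mul_cancel₀ _ hf'⟩)
  rw [eq_div_iff hf', ← map_mul] at ha
  exact ⟨a, by rw [← IsFractionRing.injective R K ha, mul_comm]⟩

/-- the second symbolic power, through a uniformizer -/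
def sq2 (P : Ideal R) [P.IsPrime] (t : R) : Ideal R where
  carrier := {x | ∃ s ∉ P, t ^ 2 ∣ s * x}
  zero_mem' := ⟨1, Ideal.IsPrime.one_notMem ‹_›, by simp⟩
  add_mem' := by
    rintro x y ⟨s, hs, hx⟩ ⟨s', hs', hy⟩
    refine ⟨s * s', fun h => (Ideal.IsPrime.mem_or_mem ‹_› h).elim hs hs', ?_⟩
    rw [show s * s' * (x + y) = s' * (s * x) + s * (s' * y) by ring]
    exact dvd_add (dvd_mul_of_dvd_right hx _) (dvd_mul_of_dvd_right hy _)
  smul_mem' := by
    rintro c x ⟨s, hs, hx⟩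
    exact ⟨s, hs, by rw [smul_eq_mul, mul_left_comm]; exact dvd_mul_of_dvd_right hx _⟩

variable {P : Ideal R} [P.IsPrime] {t : R}

omit [IsNoetherianRing R] [IsIntegrallyClosed R] in
theorem simple_of_notMem_sq (ht : Unif P t) {f : R} (hfP : f ∈ P) (hf : f ∉ sq2 P t) : Simple f P := by
  obtain ⟨k, s, hs, s', hs', e⟩ := ht.fac f (fun h => hf (h ▸ zero_mem _))
  rcases k with _ | _ | k
  · rw [pow_zero, one_mul] at e
    exact absurd (e ▸ Ideal.mul_mem_right _ _ hfP) hs'
  · intro x hx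
    obtain ⟨s₁, hs₁, a, ha⟩ := ht.sat x hx
    refine ⟨s' * s₁, fun h => (Ideal.IsPrime.mem_or_mem ‹_› h).elim hs' hs₁, s * a, ?_⟩
    rw [pow_one] at e
    linear_combination s' * ha - a * e
  · exact absurd ⟨s, hs, ⟨t ^ k * s', by rw [mul_comm s, e]; ring⟩⟩ hf

omit [IsNoetherianRing R] [IsIntegrallyClosed R] in
theorem sq_mem (ht : Unif P t) {w : R} (hw : w ∈ P) : w ^ 2 ∈ sq2 P t := by
  obtain ⟨s, hs, a, e⟩ := ht.sat w hw
  exact ⟨s ^ 2, fun h => hs (Ideal.IsPrime.mem_of_pow_mem ‹_› 2 h), ⟨a ^ 2, by rw [← mul_pow, e]; ring⟩⟩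

omit [IsNoetherianRing R] [IsIntegrallyClosed R] in
theorem mul_notMem_sq (ht : Unif P t) {w : R} (hw : w ∉ P) : t * w ∉ sq2 P t := by
  rintro ⟨s, hs, a, ha⟩
  have h : s * w = t * a := mul_left_cancel₀ ht.ne_zero (by linear_combination ha)
  exact (Ideal.IsPrime.mem_or_mem ‹_› (h ▸ Ideal.mul_mem_right _ _ ht.mem : s * w ∈ P)).elim hs hw

theorem exists_unif' (P : Ideal R) (hp : P.IsPrime) (h : P.height = 1) : ∃ t, Unif P t := by
  obtain ⟨t, ht, -⟩ := @exists_unif R _ _ _ _ P hp h ∅ (by simp)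
  exact ⟨t, ht⟩

section Local

variable [IsLocalRing R]

omit [IsIntegrallyClosed R] in
theorem exists_mul_mem_radical {J : Ideal R} (hJ : J.IsRadical) (hJ0 : J ≠ ⊥) {q : Ideal R} [q.IsPrime]
    (hq : q.height = 1) : ∃ c ∉ q, ∀ z ∈ q, c * z ∈ J := by
  classical
  let T := (Ideal.finite_minimalPrimes_of_isNoetherianRing R J).toFinset.erase q
  have hne : ∀ p ∈ T, ∃ c ∈ p, c ∉ q := fun p hp => by
    obtain ⟨hpq, hp⟩ := Finset.mem_erase.1 hp
    rw [Set.Finite.mem_toFinset] at hp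
    have := hp.isPrime
    refine Set.not_subset.1 fun hle => hpq (eq_of_le hq hle fun h => hJ0 (le_bot_iff.1 (h ▸ hp.1.2)))
  choose c hcp hcq using hne
  refine ⟨∏ p ∈ T.attach, c p.1 p.2, fun h => ?_, fun z hz => ?_⟩
  · obtain ⟨p, -, hp⟩ := (Ideal.IsPrime.prod_mem_iff (hp := ‹q.IsPrime›)).1 h
    exact hcq _ _ hp
  · rw [← hJ.radical, ← Ideal.sInf_minimalPrimes, Ideal.mem_sInf]
    intro p hp
    by_cases hpq : p = q
    · exact hpq ▸ Ideal.mul_mem_left _ _ hz
    · have hpT : p ∈ T := Finset.mem_erase.2 ⟨hpq, (Set.Finite.mem_toFinset _).2 hp⟩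
      exact Ideal.mul_mem_right _ _ (p.mem_of_dvd (Finset.dvd_prod_of_mem (fun p => c p.1 p.2)
        (Finset.mem_attach T ⟨p, hpT⟩)) (hcp p hpT))

/-- Perturb `f` inside `J ∩ m^N` so that it becomes simple at every prime through it. -/
theorem exists_perturbation {J : Ideal R} (hJ : J.IsRadical) (hJ0 : J ≠ ⊥)
    (hm : (maximalIdeal R).height ≠ 1) (N : ℕ) {f : R} (hf : f ≠ 0) :
    ∃ g, g ∈ J ∧ g ∈ maximalIdeal R ^ N ∧ ∀ P ∈ S1 f, f + g ∈ P ∧ Simple (f + g) P := by
  classical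
  have hτ : ∀ P : Ideal R, P.IsPrime → P.height = 1 → ∃ t, Unif P t := exists_unif'
  choose! τ hτ using hτ
  let S := (S1_finite hf).toFinset
  have hS : ∀ {P : Ideal R}, P ∈ S → P.IsPrime ∧ P.height = 1 ∧ f ∈ P := fun {P} h =>
    (show P ∈ S1 f from (Set.Finite.mem_toFinset (S1_finite hf)).1 h)
  have key : ∀ q ∈ S, ∃ w ∉ q, τ q * w ∈ J ∧ τ q * w ∈ maximalIdeal R ^ N ∧
      ∀ p, (hp : p ∈ S) → p ≠ q → @Membership.mem R (Ideal R) _ (@sq2 R _ p (hS hp).1 (τ p)) (τ q * w) := by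
    intro q hq
    obtain ⟨hqp, hq1, -⟩ := hS hq
    obtain ⟨c, hc, hcJ⟩ := exists_mul_mem_radical hJ hJ0 hq1
    obtain ⟨s, hsm, hsq⟩ : ∃ s ∈ maximalIdeal R, s ∉ q :=
      Set.not_subset.1 fun hle => hm ((le_antisymm (show maximalIdeal R ≤ q from hle) (le_maximalIdeal hqp.ne_top)).symm ▸ hq1)
    have hne : ∀ p ∈ S.erase q, ∃ w ∈ p, w ∉ q := fun p hp => by
      obtain ⟨hpq, hp⟩ := Finset.mem_erase.1 hp
      obtain ⟨hpp, hp1, hfp⟩ := hS hp
      exact Set.not_subset.1 fun hle => hpq (eq_of_le hq1 hle fun h => hf (by simpa [h] using hfp))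
    choose v hvp hvq using hne
    refine ⟨c * s ^ N * ∏ p ∈ (S.erase q).attach, v p.1 p.2 ^ 2, fun h => ?_, ?_, ?_, fun p hp hpq => ?_⟩
    · rcases hqp.mem_or_mem h with h | h
      · exact (hqp.mem_or_mem h).elim hc fun h => hsq (hqp.mem_of_pow_mem N h)
      · obtain ⟨p, -, hp⟩ := hqp.prod_mem_iff.1 h
        exact hvq _ _ (hqp.mem_of_pow_mem 2 hp)
    · rw [← mul_assoc, ← mul_assoc, mul_comm (τ q) c]
      exact Ideal.mul_mem_right _ _ (Ideal.mul_mem_right _ _ (hcJ _ (hτ q hqp hq1).mem))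
    · exact Ideal.mul_mem_left _ _ (Ideal.mul_mem_right _ _ (Ideal.mul_mem_left _ _
        (Ideal.pow_mem_pow hsm N)))
    · obtain ⟨hpp, hp1, -⟩ := hS hp
      have hpT : p ∈ S.erase q := Finset.mem_erase.2 ⟨hpq, hp⟩
      exact Ideal.mul_mem_left _ _ (Ideal.mul_mem_left _ _ ((@sq2 R _ p hpp (τ p)).mem_of_dvd
        (Finset.dvd_prod_of_mem (fun p => v p.1 p.2 ^ 2) (Finset.mem_attach _ ⟨p, hpT⟩))
        (sq_mem (hτ p hpp hp1) (hvp p hpT))))
  choose w hwq hwJ hwN hwsq using key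
  let B := S.filter fun q => ∃ s ∉ q, τ q ^ 2 ∣ s * f
  refine ⟨∑ q ∈ B.attach, τ q.1 * w q.1 (Finset.mem_filter.1 q.2).1,
    Ideal.sum_mem _ fun q _ => hwJ _ _, Ideal.sum_mem _ fun q _ => hwN _ _, fun P hP => ?_⟩
  have hPS : P ∈ S := (Set.Finite.mem_toFinset _).2 hP
  obtain ⟨hPp, hP1, hfP⟩ := hS hPS
  have hu := hτ P hPp hP1
  have hmemP : ∀ (q : {q // q ∈ B}), τ q.1 * w q.1 (Finset.mem_filter.1 q.2).1 ∈ P := fun q => by
    by_cases h : q.1 = P
    · exact Ideal.mul_mem_right _ _ (by rw [h]; exact hu.mem)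
    · obtain ⟨s, hs, d, hd⟩ := hwsq q.1 _ P hPS (fun e => h e.symm)
      refine (hPp.mem_or_mem ?_).resolve_left hs
      rw [hd, pow_two, mul_assoc]
      exact Ideal.mul_mem_right _ _ hu.mem
  have hfg : f + ∑ q ∈ B.attach, τ q.1 * w q.1 (Finset.mem_filter.1 q.2).1 ∈ P :=
    Ideal.add_mem _ hfP (Ideal.sum_mem _ fun q _ => hmemP q)
  refine ⟨hfg, simple_of_notMem_sq hu hfg ?_⟩
  by_cases hPB : P ∈ B
  · rw [← Finset.add_sum_erase _ _ (Finset.mem_attach B ⟨P, hPB⟩), add_left_comm]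
    intro h
    refine mul_notMem_sq hu (hwq P hPS) ((Ideal.add_mem_iff_left _ (Ideal.add_mem _ ?_ ?_)).1 h)
    · exact (Finset.mem_filter.1 hPB).2
    · exact Ideal.sum_mem _ fun q hq => hwsq q.1 _ P hPS fun e => (Finset.mem_erase.1 hq).1 (Subtype.ext e.symm)
  · intro h
    refine hPB (Finset.mem_filter.2 ⟨hPS, (Ideal.add_mem_iff_left _ (Ideal.sum_mem _ fun q _ =>
      hwsq q.1 _ P hPS fun e => hPB (by rw [e]; exact q.2))).1 h⟩)

omit [IsIntegrallyClosed R] in
theorem exists_sop (hc : CAlg.IsCatenary R) {f : R} (hf : f ≠ 0) (hfm : f ∈ maximalIdeal R) :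
    ∃ (e : ℕ) (x : Fin e → R), (∀ i, x i ∈ maximalIdeal R) ∧
      maximalIdeal R ≤ (Ideal.span {f} ⊔ Ideal.span (Set.range x)).radical ∧
      ∀ P : Ideal R, P.IsPrime → P.height = 1 → P ≠ maximalIdeal R →
        ∃ l : LTSeries (PrimeSpectrum R), e ≤ l.length ∧ P ≤ l.head.asIdeal := by
  classical
  let A := R ⧸ Ideal.span {f}
  let π : R →+* A := Ideal.Quotient.mk _
  have hπ : Function.Surjective π := Ideal.Quotient.mk_surjective
  have hk : RingHom.ker π ≤ maximalIdeal R := by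
    rw [Ideal.mk_ker]; exact (Ideal.span_singleton_le_iff_mem _).2 hfm
  let M := (maximalIdeal R).map π
  have hMp : M.IsPrime := Ideal.map_isPrime_of_surjective hπ hk
  have hMc : M.comap π = maximalIdeal R := by
    rw [Ideal.comap_map_of_surjective π hπ, ← RingHom.ker_eq_comap_bot, sup_eq_left]; exact hk
  obtain ⟨s, hs, hcard⟩ := M.exists_finset_card_eq_height_of_isNoetherianRing
  let x : Fin s.card → R := fun i => (hπ (s.equivFin.symm i).1).choose
  have hx : ∀ i, π (x i) = (s.equivFin.symm i).1 := fun i => (hπ (s.equivFin.symm i).1).choose_spec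
  refine ⟨s.card, x, fun i => ?_, ?_, fun P hP hP1 hPm => ?_⟩
  · rw [← hMc, Ideal.mem_comap, hx]
    exact hs.1.2 (Ideal.subset_span (s.equivFin.symm i).2)
  · rw [Ideal.radical_eq_sInf]
    refine le_sInf fun Q ⟨hQ, hQp⟩ => ?_
    have hfQ : RingHom.ker π ≤ Q := by rw [Ideal.mk_ker]; exact le_sup_left.trans hQ
    have hQM : Q.map π ≤ M := Ideal.map_mono (le_maximalIdeal hQp.ne_top)
    have hsQ : Ideal.span (s : Set A) ≤ Q.map π := Ideal.span_le.2 fun a ha => by
      rw [SetLike.mem_coe, show a = π (x (s.equivFin ⟨a, ha⟩)) by rw [hx]; simp]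
      exact Ideal.mem_map_of_mem _ (hQ (Ideal.mem_sup_right (Ideal.subset_span ⟨_, rfl⟩)))
    have := hs.2 ⟨Ideal.map_isPrime_of_surjective hπ hfQ, hsQ⟩ hQM
    calc maximalIdeal R = M.comap π := hMc.symm
      _ ≤ (Q.map π).comap π := Ideal.comap_mono this
      _ = Q := by rw [Ideal.comap_map_of_surjective π hπ, ← RingHom.ker_eq_comap_bot, sup_eq_left]; exact hfQ
  · have : WellFoundedLT (PrimeSpectrum R) :=
      StrictMono.wellFoundedLT (f := fun p : PrimeSpectrum R => p.asIdeal.height) fun p q h =>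
        (ENat.add_one_le_iff (Ideal.height_ne_top p.isPrime.ne_top)).1
          (Ideal.height_add_one_le_of_lt_of_isPrime h)
    have : WellFoundedGT (PrimeSpectrum R) :=
      StrictMono.wellFoundedGT (f := PrimeSpectrum.asIdeal) fun p q h => h
    -- a chain of length `s.card + 1` from `⊥` to `m`
    have hh : Order.height (⟨M, hMp⟩ : PrimeSpectrum A) = s.card := by
      rw [hcard]; exact (PrimeSpectrum.height_eq_orderHeight _).symm
    obtain ⟨l₀, hlast, hlen⟩ := Order.exists_series_of_height_eq_coe _ hh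
    let l₁ := l₀.map (PrimeSpectrum.comap π) fun a b h => by
      exact lt_of_le_of_ne (Ideal.comap_mono h.le) fun e =>
        h.ne (PrimeSpectrum.comap_injective_of_surjective π hπ e)
    let b : PrimeSpectrum R := ⟨⊥, Ideal.isPrime_bot⟩
    let T : PrimeSpectrum R := ⟨maximalIdeal R, inferInstance⟩
    have hb : b < l₁.head := by
      refine lt_of_le_of_ne (show b.asIdeal ≤ _ from bot_le) fun e => hf ?_
      have hfh : f ∈ l₁.head.asIdeal := by
        show π f ∈ l₀.head.asIdeal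
        rw [show π f = 0 from Ideal.Quotient.eq_zero_iff_mem.2 (Ideal.mem_span_singleton_self f)]
        exact zero_mem _
      simpa [← e, b] using hfh
    let l₂ := l₁.cons b hb
    have hl₂h : l₂.head = b := RelSeries.head_cons ..
    have hl₂l : l₂.last = T := by
      rw [RelSeries.last_cons]
      show PrimeSpectrum.comap π l₀.last = T
      rw [hlast]
      exact PrimeSpectrum.ext hMc
    obtain ⟨t₂, i₂, hi₂, hi₂0, hi₂l⟩ := LTSeries.exists_relSeries_covBy l₂
    have ht₂h : t₂.head = b := by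
      rw [← hl₂h]; show t₂ 0 = l₂ 0; rw [← hi₂0, ← hi₂]; rfl
    have ht₂l : t₂.last = T := by
      rw [← hl₂l]; show t₂ (Fin.last _) = l₂ (Fin.last _); rw [← hi₂l, ← hi₂]; rfl
    have hlen₂ : s.card + 1 ≤ t₂.length := by
      have h := Fintype.card_le_of_embedding i₂
      have h2 : l₂.length = s.card + 1 := by
        simp only [l₂, l₁, RelSeries.cons_length, LTSeries.map_length]; exact congrArg (· + 1) hlen
      simp only [Fintype.card_fin] at h
      omega
    -- a saturated chain through `P`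
    let p : PrimeSpectrum R := ⟨P, hP⟩
    have hbp : b < p := lt_of_le_of_ne (show b.asIdeal ≤ _ from bot_le) fun e => by
      have : P = ⊥ := congrArg PrimeSpectrum.asIdeal e.symm
      rw [this, Ideal.height_bot] at hP1
      exact zero_ne_one hP1
    have hpT : p < T := lt_of_le_of_ne (show p.asIdeal ≤ _ from le_maximalIdeal hP.ne_top)
      fun e => hPm (congrArg PrimeSpectrum.asIdeal e)
    let l₃ : LTSeries (PrimeSpectrum R) := ⟨2, ![b, p, T], fun i => by fin_cases i <;> [exact hbp; exact hpT]⟩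
    obtain ⟨t₃, i₃, hi₃, hi₃0, hi₃l⟩ := LTSeries.exists_relSeries_covBy l₃
    have ht₃h : t₃.head = b := by
      show t₃ 0 = b; rw [← hi₃0]; show (t₃ ∘ i₃) 0 = b; rw [hi₃]; rfl
    have ht₃l : t₃.last = T := by
      show t₃ (Fin.last _) = T; rw [← hi₃l]; show (t₃ ∘ i₃) _ = T; rw [hi₃]
      rfl
    let u₂ : LTSeries (PrimeSpectrum R) := ⟨t₂.length, t₂, fun i => CovBy.lt (t₂.step i)⟩
    let u₃ : LTSeries (PrimeSpectrum R) := ⟨t₃.length, t₃, fun i => CovBy.lt (t₃.step i)⟩
    have hlen₃ : t₃.length = t₂.length :=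
      hc.2 u₃ u₂ (ht₃h.trans ht₂h.symm) (ht₃l.trans ht₂l.symm) (fun i => t₃.step i) (fun i => t₂.step i)
    let one : Fin (t₃.length + 1) := ⟨1, by omega⟩
    have h01 : b < t₃ one := by
      rw [← ht₃h]; exact u₃.strictMono (show (0 : Fin _) < one from Nat.zero_lt_one)
    obtain ⟨j, hj⟩ : ∃ j, t₃ j = p := ⟨i₃ ⟨1, by simp [l₃]⟩, by
      show (t₃ ∘ i₃) _ = p; rw [hi₃]; rfl⟩
    have hle : t₃ one ≤ p := by
      rw [← hj]
      refine u₃.monotone (show 1 ≤ (j : ℕ) from Nat.one_le_iff_ne_zero.2 fun h0 => hbp.ne ?_)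
      rw [← hj, ← ht₃h, show j = 0 from Fin.ext h0]; rfl
    have hone : (t₃ one).asIdeal = P := eq_of_le hP1 hle fun h =>
      h01.ne (PrimeSpectrum.ext h.symm)
    refine ⟨u₃.drop one, ?_, ?_⟩
    · simp [RelSeries.drop, u₃, one]; omega
    · rw [← hone]
      simp [RelSeries.drop, RelSeries.head, u₃, one]

omit [IsIntegrallyClosed R] in
theorem ncard_S1_le {f : R} (hf : f ≠ 0) {e : ℕ} {x : Fin e → R}
    (hxm : ∀ i, x i ∈ maximalIdeal R)
    (hrad : maximalIdeal R ≤ (Ideal.span {f} ⊔ Ideal.span (Set.range x)).radical)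
    (hch : ∀ P : Ideal R, P.IsPrime → P.height = 1 → P ≠ maximalIdeal R →
        ∃ l : LTSeries (PrimeSpectrum R), e ≤ l.length ∧ P ≤ l.head.asIdeal)
    (hm : (maximalIdeal R).height ≠ 1) (hfm : f ∈ maximalIdeal R) :
    ((S1 f).ncard : ℕ∞) ≤ Module.length R (R ⧸ (Ideal.span {f} ⊔ Ideal.span (Set.range x))) := by
  let A := R ⧸ Ideal.span {f}
  let π : R →+* A := Ideal.Quotient.mk _
  have hπ : Function.Surjective π := Ideal.Quotient.mk_surjective
  have hker : RingHom.ker π = Ideal.span {f} := Ideal.mk_ker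
  have : Nontrivial A := Ideal.Quotient.nontrivial_iff.2 fun h =>
    (maximalIdeal.isMaximal R).ne_top (top_le_iff.1 (h ▸ (Ideal.span_singleton_le_iff_mem _).2 hfm))
  have : IsLocalRing A := IsLocalRing.of_surjective' π hπ
  have hspan : Ideal.span (Set.range fun i => π (x i)) = (Ideal.span (Set.range x)).map π := by
    rw [Ideal.map_span, ← Set.range_comp]; rfl
  have hmax : (maximalIdeal R).map π = maximalIdeal A :=
    IsLocalRing.eq_maximalIdeal ((Ideal.IsMaximal.map_of_surjective_of_ker_le hπ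
      (by rw [hker]; exact (Ideal.span_singleton_le_iff_mem _).2 hfm)))
  have key := CAlgMisc2.ncard_le_length e A (fun i => π (x i))
    (fun i => by rw [← hmax]; exact Ideal.mem_map_of_mem _ (hxm i)) (by
      rw [← hmax, hspan]
      refine (Ideal.map_mono hrad).trans ((Ideal.map_radical_le π).trans (Ideal.radical_mono ?_))
      rw [Ideal.map_sup, (Ideal.map_eq_bot_iff_le_ker π).2 hker.ge, bot_sup_eq])
  have hquot : Module.length A (A ⧸ Ideal.span (Set.range fun i => π (x i))) =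
      Module.length R (R ⧸ (Ideal.span {f} ⊔ Ideal.span (Set.range x))) := by
    rw [← Module.length_eq_of_surjective (S := R) (R := A) (M := A ⧸ Ideal.span (Set.range fun i => π (x i)))
      hπ]
    exact ((Ideal.quotientEquivAlgOfEq R hspan).trans
      (DoubleQuot.quotQuotEquivQuotSupₐ R _ _)).toLinearEquiv.length_eq
  rw [hquot] at key
  refine le_trans ?_ key
  norm_cast
  refine Set.ncard_le_ncard_of_injOn (fun P => P.map π) (fun P hP => ?_) (fun P hP Q hQ h => ?_)
    ((minimalPrimes.finite_of_isNoetherianRing A).subset fun p hp => hp.1)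
  · obtain ⟨hPp, hP1, hfP⟩ := hP
    have hkP : RingHom.ker π ≤ P := by rw [hker]; exact (Ideal.span_singleton_le_iff_mem _).2 hfP
    have hmin := mem_minimalPrimes_of_height_one hP1 ((Ideal.span_singleton_le_iff_mem _).2 hfP)
      (by rwa [Ne, Ideal.span_singleton_eq_bot])
    refine ⟨⟨⟨Ideal.map_isPrime_of_surjective hπ hkP, bot_le⟩, fun Q ⟨hQ, _⟩ hle => ?_⟩, ?_⟩
    · rw [← Ideal.map_comap_of_surjective π hπ Q]
      refine Ideal.map_mono (hmin.2 ⟨hQ.comap π, ?_⟩ ?_)
      · exact hker.ge.trans (Ideal.comap_mono bot_le)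
      · refine (Ideal.comap_mono hle).trans ?_
        rw [Ideal.comap_map_of_surjective π hπ, ← RingHom.ker_eq_comap_bot, sup_eq_left.2 hkP]
    · obtain ⟨l, hl, hPl⟩ := hch P hPp hP1 fun h => hm (h ▸ hP1)
      rw [CAlgMisc2.le_supportDim_iff]
      have hmem : ∀ i, RingHom.ker π ≤ (l i).asIdeal := fun i =>
        hkP.trans (hPl.trans (l.monotone (Fin.zero_le i)))
      let g : Fin (l.length + 1) → PrimeSpectrum A := fun i =>
        ⟨(l i).asIdeal.map π, Ideal.map_isPrime_of_surjective hπ (hmem i)⟩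
      let l' : LTSeries (PrimeSpectrum A) := ⟨l.length, g, fun i => by
        refine lt_of_le_of_ne (show (g i.castSucc).asIdeal ≤ (g i.succ).asIdeal from
          Ideal.map_mono (show (l i.castSucc).asIdeal ≤ (l i.succ).asIdeal from le_of_lt (l.step i)))
          fun h => (l.step i).ne (PrimeSpectrum.ext ?_)
        have h' := congrArg (Ideal.comap π) h
        simpa [g, Ideal.comap_map_of_surjective π hπ, ← RingHom.ker_eq_comap_bot, sup_eq_left.2 (hmem _)] using h'⟩
      refine ⟨l'.take ⟨e, show e < l.length + 1 by omega⟩, rfl, ?_⟩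
      simpa [l', g, RelSeries.take, RelSeries.head] using Ideal.map_mono hPl
  · have h' := congrArg (Ideal.comap π) h
    simpa [Ideal.comap_map_of_surjective π hπ, ← RingHom.ker_eq_comap_bot,
      sup_eq_left.2 (show RingHom.ker π ≤ P by rw [hker]; exact (Ideal.span_singleton_le_iff_mem _).2 hP.2.2),
      sup_eq_left.2 (show RingHom.ker π ≤ Q by rw [hker]; exact (Ideal.span_singleton_le_iff_mem _).2 hQ.2.2)] using h'

theorem exists_reduced_section (hc : CAlg.IsCatenary R) (J : Ideal R) (hJ : J.IsRadical) (hJ0 : J ≠ ⊥) :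
    ∃ f ∈ J, f ≠ 0 ∧ IsReduced (R ⧸ Ideal.span {f}) := by
  classical
  by_cases hJtop : J = ⊤
  · exact ⟨1, hJtop ▸ Submodule.mem_top, one_ne_zero, isReduced_of_simple one_ne_zero
      fun P hP => absurd hP.2.2 hP.1.one_notMem⟩
  have hJm : J ≤ maximalIdeal R := le_maximalIdeal hJtop
  by_cases hm : (maximalIdeal R).height = 1
  · obtain ⟨t, ht⟩ := exists_unif' (maximalIdeal R) inferInstance hm
    have hmJ : maximalIdeal R ≤ J := by
      rw [← hJ.radical, Ideal.radical_eq_sInf]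
      refine le_sInf fun Q ⟨hQ, hQp⟩ => ?_
      exact (eq_of_le hm (le_maximalIdeal hQp.ne_top) fun h => hJ0 (le_bot_iff.1 (h ▸ hQ))).ge
    refine ⟨t, hmJ ht.mem, ht.ne_zero, isReduced_of_simple ht.ne_zero fun P hP => ?_⟩
    obtain ⟨hPp, hP1, htP⟩ := hP
    obtain rfl : P = maximalIdeal R := eq_of_le hm (le_maximalIdeal hPp.ne_top) fun h => by
      rw [h, Ideal.height_bot] at hP1; exact zero_ne_one hP1
    exact simple_of_notMem_sq ht htP fun h => mul_notMem_sq ht hPp.one_notMem (by rwa [mul_one])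
  obtain ⟨f₀, hf₀J, hf₀⟩ := Submodule.exists_mem_ne_zero_of_ne_bot hJ0
  have hf₀m := hJm hf₀J
  obtain ⟨e, x, hxm, hrad, hch⟩ := exists_sop hc hf₀ hf₀m
  let I₀ := Ideal.span {f₀} ⊔ Ideal.span (Set.range x)
  have hI₀m : I₀ ≤ maximalIdeal R :=
    sup_le ((Ideal.span_singleton_le_iff_mem _).2 hf₀m) (Ideal.span_le.2 (by rintro _ ⟨i, rfl⟩; exact hxm i))
  obtain ⟨n, hn⟩ := Ideal.exists_pow_le_of_le_radical_of_fg hrad (IsNoetherian.noetherian _)
  have hfin : Module.length R (R ⧸ I₀) ≠ ⊤ := by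
    have : Nontrivial (R ⧸ I₀) := Ideal.Quotient.nontrivial_iff.2 fun h =>
      (maximalIdeal.isMaximal R).ne_top (top_le_iff.1 (h ▸ hI₀m))
    have : IsArtinianRing (R ⧸ I₀) := by
      have : Ring.KrullDimLE 0 (R ⧸ I₀) := Ring.KrullDimLE.mk₀ fun Q hQ => by
        have hle : maximalIdeal R ≤ Q.comap (Ideal.Quotient.mk I₀) :=
          hrad.trans ((hQ.comap _).isRadical.radical_le_iff.2 (by
            exact (Ideal.mk_ker (I := I₀)).ge.trans (Ideal.comap_mono bot_le)))
        have hQc := le_antisymm (le_maximalIdeal (hQ.comap _).ne_top) hle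
        rw [← Ideal.map_comap_of_surjective _ Ideal.Quotient.mk_surjective Q, hQc]
        exact Ideal.IsMaximal.map_of_surjective_of_ker_le Ideal.Quotient.mk_surjective
          (Ideal.mk_ker.le.trans hI₀m)
      exact IsNoetherianRing.isArtinianRing_of_krullDimLE_zero
    rw [Module.length_eq_of_surjective (S := R) (R := R ⧸ I₀) Ideal.Quotient.mk_surjective]
    exact Module.length_ne_top
  obtain ⟨L, hL⟩ := ENat.ne_top_iff_exists.1 hfin
  by_contra hno
  simp only [not_exists, not_and] at hno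
  have grow : ∀ k : ℕ, ∃ f ∈ J, f ≠ 0 ∧ Ideal.span {f} ⊔ Ideal.span (Set.range x) = I₀ ∧
      k ≤ (S1 f).ncard := by
    intro k
    induction k with
    | zero => exact ⟨f₀, hf₀J, hf₀, rfl, Nat.zero_le _⟩
    | succ k ih =>
      obtain ⟨f, hfJ, hf, hfI, hk⟩ := ih
      obtain ⟨g, hgJ, hgN, hP⟩ := exists_perturbation hJ hJ0 hm (n + 1) hf
      have hfm := hJm hfJ
      obtain ⟨P₀, hP₀⟩ := Ideal.nonempty_minimalPrimes (I := Ideal.span {f})
        (fun h => (maximalIdeal.isMaximal R).ne_top (top_le_iff.1 (h ▸ (Ideal.span_singleton_le_iff_mem _).2 hfm)))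
      have hP₀' : P₀ ∈ S1 f := by
        refine ⟨hP₀.isPrime, le_antisymm ?_ ?_, hP₀.1.2 (Ideal.mem_span_singleton_self f)⟩
        · exact Ideal.height_le_one_of_isPrincipal_of_mem_minimalPrimes _ _ hP₀
        · have hne : P₀ ≠ ⊥ := fun h => hf (by simpa [h] using hP₀.1.2 (Ideal.mem_span_singleton_self f))
          have := hP₀.isPrime
          exact le_trans le_add_self (Ideal.height_add_one_le_of_lt_of_isPrime (bot_lt_iff_ne_bot.2 hne))
      have hfg : f + g ≠ 0 := fun h0 => by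
        obtain ⟨hm₀, hs⟩ := hP P₀ hP₀'
        obtain ⟨t, ht⟩ := exists_unif' P₀ hP₀'.1 hP₀'.2.1
        obtain ⟨s, hs', hd⟩ := hs t ht.mem
        rw [h0, zero_dvd_iff, mul_eq_zero] at hd
        exact hd.elim (fun h => hs' (h ▸ zero_mem _)) ht.ne_zero
      have hgI : g ∈ maximalIdeal R • I₀ := by
        rw [smul_eq_mul]
        rw [pow_succ'] at hgN
        exact Ideal.mul_mono_right hn hgN
      have hI : Ideal.span {f + g} ⊔ Ideal.span (Set.range x) = I₀ := by
        have hgI' : g ∈ I₀ := Ideal.mul_le_right hgI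
        refine le_antisymm (sup_le ((Ideal.span_singleton_le_iff_mem _).2 ?_) ?_) ?_
        · exact Ideal.add_mem _ (hfI ▸ Ideal.mem_sup_left (Ideal.mem_span_singleton_self f)) hgI'
        · exact le_sup_right
        · refine Submodule.le_of_le_smul_of_le_jacobson_bot (IsNoetherian.noetherian _)
            (maximalIdeal_le_jacobson _) ?_
          conv_lhs => rw [← hfI]
          refine sup_le ((Ideal.span_singleton_le_iff_mem _).2 ?_) (le_sup_right.trans le_sup_left)
          suffices h : (f + g) - g ∈ Ideal.span {f + g} ⊔ Ideal.span (Set.range x) ⊔ maximalIdeal R • I₀ by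
            simpa using h
          exact Submodule.sub_mem _ (Submodule.mem_sup_left (Ideal.mem_sup_left (Ideal.mem_span_singleton_self _)))
            (Submodule.mem_sup_right hgI)
      refine ⟨f + g, J.add_mem hfJ hgJ, hfg, hI, ?_⟩
      by_contra hlt
      have heq : S1 f = S1 (f + g) :=
        Set.eq_of_subset_of_ncard_le (fun P h => ⟨h.1, h.2.1, (hP P h).1⟩) (by omega) (S1_finite hfg)
      exact hno _ (J.add_mem hfJ hgJ) hfg
        (isReduced_of_simple hfg fun P h => (hP P (heq ▸ h)).2)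
  obtain ⟨f, hfJ, hf, hfI, hk⟩ := grow (L + 1)
  have := ncard_S1_le hf hxm (hfI ▸ hrad) hch hm (hJm hfJ)
  rw [hfI, ← hL] at this
  have : (S1 f).ncard ≤ L := by exact_mod_cast this
  omega

end Local

end Groth.Agent.CohDer1.RedSection
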